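import Groth.Agent.S1627
import Groth.Agent.S1561
import Groth.Agent.S1535
import Groth.Agent.Lib.Normalization.InFieldVariety
import Groth.Agent.Lib.Normalization.Basic
import Mathlib.RingTheory.DedekindDomain.Basic

/-!
# Normal projective completion of an integral curve
-/

set_option autoImplicit false

noncomputable section

universe u

open CategoryTheory CategoryTheory.Limits AlgebraicGeometry TopologicalSpace

namespace Groth.Agent.Lib.CurveCompl53.Basic

open Groth.Agent.H97

theorem isRegularLocalRing_of_dim_le_one (R : Type u) [CommRing R] [IsNoetherianRing R] [IsLocalRing R]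
    [IsDomain R] [IsIntegrallyClosed R] (h : ringKrullDim R ≤ 1) : IsRegularLocalRing R := by
  haveI : Ring.KrullDimLE 1 R := Ring.krullDimLE_iff.2 h
  haveI : Ring.DimensionLEOne R := ⟨fun {p} hp hpp => by
    exact (Ring.krullDimLE_one_iff_of_isPrime_bot.1 ‹_› p) hp hpp⟩
  haveI : IsDedekindDomain R := {}
  infer_instance

/-- Over a normal open, the normalization is an isomorphism. -/
theorem isIso_normalizationι_restrict (Y : Scheme.{u}) [IsIntegral Y]
    [QuasiCompact (Y.fromSpecStalk (genericPoint Y))] [QuasiSeparated (Y.fromSpecStalk (genericPoint Y))]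
    (U : Y.Opens) (hn : ∀ y ∈ U, IsIntegrallyClosed (Y.presheaf.stalk y)) :
    IsIso (Curv2.normalizationι Y ∣_ U) := by
  haveI : IsAffineHom (Curv2.normalizationι Y) :=
    inferInstanceAs (IsAffineHom (Y.fromSpecStalk (genericPoint Y)).fromNormalization)
  have happ : ∀ W : Y.Opens, IsAffineOpen W → W ≤ U →
      Function.Bijective ((Curv2.normalizationι Y).app W).hom := fun W hW hWU => by
    rcases isEmpty_or_nonempty W with he | hne
    · haveI : Subsingleton Γ(Y, W) := by
        rw [show W = ⊥ from Opens.ext (Set.eq_empty_iff_forall_notMem.2 fun x hx => he.false ⟨x, hx⟩)]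
        infer_instance
      haveI : Subsingleton Γ(Curv2.normalization Y, (Curv2.normalizationι Y) ⁻¹ᵁ W) := by
        rw [show W = ⊥ from Opens.ext (Set.eq_empty_iff_forall_notMem.2 fun x hx => he.false ⟨x, hx⟩),
          Scheme.Hom.preimage_bot]
        infer_instance
      exact ⟨fun a b _ => Subsingleton.elim a b, fun b => ⟨0, Subsingleton.elim _ _⟩⟩
    · haveI := functionField_isFractionRing_of_isAffineOpen Y W hW
      haveI : IsIntegrallyClosed Γ(Y, W) := IsIntegrallyClosed.of_localization_maximal fun P _ hP => by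
        have hy : hW.fromSpec ⟨P, hP.isPrime⟩ ∈ W := hW.range_fromSpec.le ⟨_, rfl⟩
        haveI := hn _ (hWU hy)
        letI := TopCat.Presheaf.algebra_section_stalk Y.presheaf (⟨_, hy⟩ : W)
        haveI : IsLocalization.AtPrime (Y.presheaf.stalk (hW.fromSpec ⟨P, hP.isPrime⟩)) P :=
          hW.isLocalization_stalk' ⟨P, hP.isPrime⟩ hy
        exact IsIntegrallyClosed.of_equiv (IsLocalization.algEquiv P.primeCompl
          (Y.presheaf.stalk (hW.fromSpec ⟨P, hP.isPrime⟩)) (Localization.AtPrime P)).toRingEquiv
      have hbij : Function.Bijective (algebraMap Γ(Y, W) (integralClosure Γ(Y, W) Y.functionField)) := by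
        refine ⟨fun a b h => IsFractionRing.injective Γ(Y, W) Y.functionField (congrArg Subtype.val h),
          fun b => ?_⟩
        obtain ⟨a, ha⟩ := IsIntegrallyClosed.isIntegral_iff.1 b.2
        exact ⟨a, Subtype.ext ha⟩
      have e : (Groth.Agent.Lib.Normalization.Basic.sectionsEquiv Y hW) ∘ ((Curv2.normalizationι Y).app W).hom =
          algebraMap Γ(Y, W) (integralClosure Γ(Y, W) Y.functionField) :=
        funext fun a => Groth.Agent.Lib.Normalization.Basic.sectionsEquiv_app Y hW a
      rw [← e] at hbij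
      exact ((Groth.Agent.Lib.Normalization.Basic.sectionsEquiv Y hW).bijective.of_comp_iff' _).1 hbij
  choose W hW hxW hWU using fun y : U => exists_isAffineOpen_mem_and_subset (X := Y) (x := y.1) (U := U) y.2
  refine IsZariskiLocalAtTarget.of_iSup_eq_top (P := MorphismProperty.isomorphisms Scheme.{u})
    (fun y : U => U.ι ⁻¹ᵁ W y) (top_le_iff.1 fun y _ => Opens.mem_iSup.2 ⟨y, hxW y⟩) fun y => ?_
  refine ((MorphismProperty.isomorphisms Scheme.{u}).arrow_mk_iso_iff
    (morphismRestrictRestrict (Curv2.normalizationι Y) U (U.ι ⁻¹ᵁ W y))).2 ?_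
  have hle : U.ι ''ᵁ (U.ι ⁻¹ᵁ W y) = W y := by
    rw [Scheme.Hom.image_preimage_eq_opensRange_inf, Scheme.Opens.opensRange_ι, inf_eq_right.mpr (show W y ≤ U from hWU y)]
  rw [hle]
  change IsIso ((Curv2.normalizationι Y) ∣_ W y)
  rw [isIso_morphismRestrict_iff_isIso_app _ (hW y), ConcreteCategory.isIso_iff_bijective]
  exact happ (W y) (hW y) (hWU y)

theorem dim_eq_of_dense_open {k : Type u} [Field k] {X Y : Scheme.{u}} [IsIntegral X] [IsIntegral Y]
    (fX : X ⟶ Spec (CommRingCat.of k)) (fY : Y ⟶ Spec (CommRingCat.of k))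
    [LocallyOfFiniteType fX] [LocallyOfFiniteType fY] [CompactSpace X] [CompactSpace Y]
    (j : X ⟶ Y) [IsOpenImmersion j] (hjk : j ≫ fY = fX) :
    topologicalKrullDim Y = topologicalKrullDim X := by
  have hg : j.base (genericPoint X) = genericPoint Y := genericPoint_eq_of_isOpenImmersion j
  have e1 := PointDim.Basic.topologicalKrullDim_closure_singleton fY (genericPoint Y)
  have e2 := PointDim.Basic.topologicalKrullDim_closure_singleton fX (genericPoint X)
  rw [genericPoint_closure, IsHomeomorph.topologicalKrullDim_eq _ (Homeomorph.Set.univ _).isHomeomorph] at e1 e2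
  rw [e1, PointDim.Basic.natTdeg, ← hg,
    ← PointDim.Basic.tdeg_openImmersion j fY fX hjk (genericPoint X), ← PointDim.Basic.natTdeg, ← e2]

/-- An integral curve is a dense open of an integral proper curve, normal if the curve is. -/
theorem exists_proper_completion (k : Type u) [Field k] (X : Scheme.{u})
    (f : X ⟶ Spec (CommRingCat.of k)) [IsIntegral X] [IsSeparated f] [LocallyOfFiniteType f] [QuasiCompact f]
    (hdim : topologicalKrullDim X = 1) :
    ∃ (Y : Scheme.{u}) (g : Y ⟶ Spec (CommRingCat.of k)) (j : X ⟶ Y), IsIntegral Y ∧ IsProper g ∧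
      IsOpenImmersion j ∧ j ≫ g = f ∧ topologicalKrullDim Y = 1 := by
  letI : X.Over (Spec (CommRingCat.of k)) := ⟨f⟩
  haveI : IsSeparated (X ↘ (Spec (CommRingCat.of k))) := ‹IsSeparated f›
  haveI : LocallyOfFiniteType (X ↘ (Spec (CommRingCat.of k))) := ‹LocallyOfFiniteType f›
  haveI : QuasiCompact (X ↘ (Spec (CommRingCat.of k))) := ‹QuasiCompact f›
  obtain ⟨d, Y, c, j, hc, hj, hjk, hdense, hstd, -, -⟩ := CurveProj.exists_completion k X hdim.le
  haveI := Groth.Agent.Lib.ProjSpace.Basic.isProper_toSpec d k
  let g := c ≫ CohB1.ProjSpace.toSpec d k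
  haveI : IrreducibleSpace Y := by
    haveI : PreirreducibleSpace Y := ⟨by
      rw [← hdense.closure_eq]
      exact ((IrreducibleSpace.isIrreducible_univ (X := X)).image j.base (by fun_prop)).isPreirreducible.closure
        |> fun h => by rwa [Set.image_univ] at h⟩
    exact { toNonempty := ⟨j.base (Classical.arbitrary X)⟩ }
  haveI : QuasiCompact j := by
    haveI : QuasiCompact (j ≫ g) := by rw [hjk]; exact ‹QuasiCompact f›
    exact QuasiCompact.of_comp j g
  haveI : IsReduced Y := IsSchemeTheoreticallyDominant.isReduced j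
  haveI : IsIntegral Y := isIntegral_of_irreducibleSpace_of_isReduced Y
  haveI : CompactSpace X := QuasiCompact.compactSpace_of_compactSpace f
  haveI : CompactSpace Y := QuasiCompact.compactSpace_of_compactSpace g
  exact ⟨Y, g, j, inferInstance, inferInstanceAs (IsProper (c ≫ _)), hj, hjk,
    (dim_eq_of_dense_open f g j hjk).trans hdim⟩

/-- A normal integral curve is a dense open of a normal integral proper curve. -/
theorem exists_normal_completion (k : Type u) [Field k] (X : Scheme.{u})
    (f : X ⟶ Spec (CommRingCat.of k)) [IsIntegral X] [IsSeparated f] [LocallyOfFiniteType f] [QuasiCompact f]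
    (hdim : topologicalKrullDim X = 1) (hn : ∀ x : X, IsIntegrallyClosed (X.presheaf.stalk x)) :
    ∃ (Y : Scheme.{u}) (g : Y ⟶ Spec (CommRingCat.of k)) (j : X ⟶ Y), IsIntegral Y ∧ IsProper g ∧
      IsOpenImmersion j ∧ j ≫ g = f ∧ topologicalKrullDim Y = 1 ∧ Pi1.IsNormalScheme Y := by
  obtain ⟨Y, g, j, hY, hg, hj, hjk, -⟩ := exists_proper_completion k X f hdim
  letI : Y.Over (Spec (CommRingCat.of k)) := ⟨g⟩
  haveI : LocallyOfFiniteType (Y ↘ (Spec (CommRingCat.of k))) := inferInstanceAs (LocallyOfFiniteType g)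
  haveI : CompactSpace Y := QuasiCompact.compactSpace_of_compactSpace g
  haveI : QuasiSeparatedSpace Y := quasiSeparatedSpace_of_quasiSeparated g
  let ν := Curv2.normalizationι Y
  haveI hfin : IsFinite ν := Groth.Agent.Lib.Normalization.InFieldVariety.isFinite_normalizationι k Y
  have hg' : Y.fromSpecStalk (genericPoint Y) =
      Spec.map (CommRingCat.ofHom (RingHom.id Y.functionField)) ≫ Y.fromSpecStalk (genericPoint Y) :=
    (by
      show _ = Spec.map (𝟙 Y.functionField) ≫ Y.fromSpecStalk (genericPoint Y)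
      rw [Spec.map_id, Category.id_comp])
  let U := j.opensRange
  have hnU : ∀ y ∈ U, IsIntegrallyClosed (Y.presheaf.stalk y) := by
    rintro _ ⟨x, rfl⟩
    haveI := hn x
    exact IsIntegrallyClosed.of_equiv (asIso (j.stalkMap x)).commRingCatIsoToRingEquiv.symm
  haveI := isIso_normalizationι_restrict Y U hnU
  let j' : X ⟶ Curv2.normalization Y := j.isoOpensRange.hom ≫ inv (ν ∣_ U) ≫ (ν ⁻¹ᵁ U).ι
  have hj'k : j' ≫ ν ≫ g = f := by
    have : j' ≫ ν = j := by
      rw [Category.assoc, Category.assoc, ← morphismRestrict_ι, IsIso.inv_hom_id_assoc,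
        Scheme.Hom.isoOpensRange_hom_ι]
    rw [← Category.assoc, this, hjk]
  haveI : IsProper (ν ≫ g) := inferInstance
  haveI : CompactSpace X := QuasiCompact.compactSpace_of_compactSpace f
  haveI : CompactSpace (Curv2.normalization Y) := QuasiCompact.compactSpace_of_compactSpace (ν ≫ g)
  haveI : IsIntegral (Curv2.normalization Y) := Groth.Agent.Lib.Normalization.InField.isIntegral_normalization _
  exact ⟨_, ν ≫ g, j', inferInstance, inferInstance, inferInstance, hj'k,
    (dim_eq_of_dense_open f (ν ≫ g) j' hj'k).trans hdim,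
    Groth.Agent.Lib.Normalization.InField.isNormalScheme _ _ hg'⟩

/-- A proper integral curve over a field is H-projective. -/
theorem exists_closedImmersion (k : Type u) [Field k] (Y : Scheme.{u}) [Y.Over (Spec (CommRingCat.of k))]
    [IsIntegral Y] [IsProper (Y ↘ (Spec (CommRingCat.of k)))] (hdim : topologicalKrullDim Y = 1) :
    ∃ (n : ℕ) (i : Y ⟶ CohB1.ProjSpace n k), IsClosedImmersion i ∧
      i ≫ CohB1.ProjSpace.toSpec n k = Y ↘ (Spec (CommRingCat.of k)) := by
  rcases Groth.Agent.S1627.result k Y hdim with h | h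
  · exfalso
    haveI : IsFinite (Y ↘ (Spec (CommRingCat.of k))) := IsFinite.iff_isProper_and_isAffineHom.2 ⟨inferInstance, inferInstance⟩
    haveI : Finite Y := by
      have h := (Y ↘ (Spec (CommRingCat.of k))).finite_preimage_singleton (default : Spec (CommRingCat.of k))
      rw [← Set.finite_univ_iff]
      exact h.subset fun y _ => Subsingleton.elim _ _
    haveI : JacobsonSpace Y := LocallyOfFiniteType.jacobsonSpace (Y ↘ (Spec (CommRingCat.of k)))
    haveI : DiscreteTopology Y := inferInstance
    have h := topologicalKrullDim_zero_of_discreteTopology Y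
    rw [hdim] at h
    exact absurd h (by decide)
  · exact h

end Groth.Agent.Lib.CurveCompl53.Basic
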